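import Cfsg.Agent.Mrg.Omega.Node.NO1
import Cfsg.Agent.Mrg.Omega.FrameI
import Cfsg.Agent.Mrg.Omega.NOne.LemmaT
import Cfsg.Agent.Mrg.Omega.NO3S.NotFF.Basic

-- merged: Cfsg.Agent.Mrg.Omega.NO3b.Union.Chain
section

/-!
# The union text for NotFF (helper1, #15791; referee #15980), part (1): the chain

`Cf S P` : `G` of characteristic 2 type, `P ∈ P*(S)`, `V_P` has no offender (image sense). No hypothesis on
`O₂(C_G(Z))`.

* `InvU S P M` : `JMin.Inv S P M` and: `g ∈ M` whenever some `T` lies between `C_S(V)` and `S` and between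
  `C_S(V)^g` and `S^g` (`V` depends only on `T`);
* `Ch S P Fam M` : `M` is a member of a chain `M₀ = N_G(J(S))`, `M_{i+1} = N_{M_i}(KK S M_i SS)`, `SS` a family of
  the kind `Fam` whose members in `S` lie in `O₂(P)`; `Ch.invU`;
* `Cf.exists_min` : a member with minimal `V`;
* `Ch.exists_first` : (5), the first member which does not contain `X`;
* `Cf.exists_chain` (`Dich.lean`) : `V` is not FF, and (ALPHA) no `1 ≠ F ≤ V` is bad or (BETA) there is a maximal
  bad `F` with `W_F ≤ S`, `W_F ≰ O₂(P)`.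
-/

set_option autoImplicit false
set_option linter.unusedSectionVars false

namespace Cfsg.Agent.Omega.NO3b.Union

open Subgroup Cfsg Cfsg.Agent.ZN Cfsg.Agent.ZN.ChoiceBase Cfsg.Agent.Omega.MinPar Cfsg.Agent.Omega.Frame
open Cfsg.Agent.Omega.NO1 Cfsg.Agent.Omega.NO1.JMin
open Cfsg.Agent.ZN.ChoiceSit (Syl syl_conj exists_syl o2_le_syl)
open Cfsg.Agent.Omega.FFThm (OffM)
open Cfsg.Agent.PLocal.ThompsonJ (isElementaryAbelian_iff)
open Cfsg.Agent.Omega.NO3b.EZero (NotFF)

universe u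

variable {G : Type u} [Group G] [Finite G]

/-- The hypotheses. -/
structure Cf (S : Sylow 2 G) (P : Subgroup G) : Prop where
  char2 : IsCharacteristicTwoType G
  star : IsParS (S : Subgroup G) P
  noOff : ∀ A : Subgroup G, A ≤ (S : Subgroup G) → ¬ OffM (zl (S : Subgroup G) P) A

theorem Cf.of_noOff {S : Sylow 2 G} {P : Subgroup G} (hc : IsCharacteristicTwoType G)
    (hP : IsParS (S : Subgroup G) P) (h : NoOff (S : Subgroup G) P) : Cf S P :=
  ⟨hc, hP, fun A hA => h A (hA.trans hP.toIsPar.isLoc.le)⟩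

/-- The invariant of the recursion: `V = ⟨Z^M⟩` depends only on a 2-group `T`, `C_S(V) ≤ T ≤ S`. -/
structure InvU (S P M : Subgroup G) : Prop extends Inv S P M where
  U : ∀ (g : G) (T : Subgroup G), S ⊓ centralizer (zl S M : Set G) ≤ T → T ≤ S →
    cj g (S ⊓ centralizer (zl S M : Set G)) ≤ T → T ≤ cj g S → g ∈ M

section step

variable {S P M : Subgroup G}

/-- **The step.** -/
theorem InvU.step (h : InvU S P M) (hS2 : o2 P ≤ S)
    (hCS : S ⊓ centralizer (zl S P : Set G) ≤ o2 P) {SS : Set (Subgroup G)}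
    (hSS : ∀ m ∈ M, ∀ X ∈ SS, cj m X ∈ SS) (hle : ∀ X ∈ SS, X ≤ S → X ≤ o2 P) :
    InvU S P (M ⊓ normalizer (KK S M SS : Set G)) where
  toInv := h.toInv.step hS2 hCS hSS hle
  U := by
    intro g T h1 h2 h3 h4
    have hVV : zl S (M ⊓ normalizer (KK S M SS : Set G)) ≤ zl S M := zl_mono inf_le_left
    have hCC : S ⊓ centralizer (zl S M : Set G) ≤
        S ⊓ centralizer (zl S (M ⊓ normalizer (KK S M SS : Set G)) : Set G) :=
      inf_le_inf_left _ (centralizer_le hVV)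
    have hg : g ∈ M := h.U g T (hCC.trans h1) h2 ((cj_mono g hCC).trans h3) h4
    have hgV := cj_eq_of_mem_normalizer (MinSimple.VModule.le_normalizer_zl S M hg)
    have hK : KK S M SS ≤ S ⊓ centralizer (zl S (M ⊓ normalizer (KK S M SS : Set G)) : Set G) :=
      le_inf (KK_le S M SS) (KK_le_centralizer SS)
    refine ⟨hg, mem_normalizer_of_cj_le ?_⟩
    have hKS : cj g (KK S M SS) ≤ S := (cj_mono g hK).trans (h3.trans h2)
    rw [KK, cj, Subgroup.map_sup]
    refine sup_le ?_ ?_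
    · refine le_trans ?_ (le_sup_left : S ⊓ centralizer (zl S M : Set G) ≤ KK S M SS)
      refine le_inf ((cj_mono g (le_sup_left : S ⊓ centralizer (zl S M : Set G) ≤ KK S M SS)).trans hKS) ?_
      refine (cj_mono g inf_le_right).trans ?_
      rw [cj_centralizer, hgV]
    · rw [Subgroup.map_le_iff_le_comap]
      refine sSup_le fun X hX => ?_
      rw [← Subgroup.map_le_iff_le_comap]
      exact le_KK (hSS g hg X hX.1) ((cj_mono g (le_KK hX.1 hX.2)).trans hKS)

end step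

namespace Cf

variable {S : Sylow 2 G} {P : Subgroup G} (h : Cf S P)
include h

theorem loc : IsLoc (S : Subgroup G) P := h.star.toIsPar.isLoc

theorem S_le : (S : Subgroup G) ≤ P := h.loc.le

theorem V_le_S : zl (S : Subgroup G) P ≤ S :=
  ((h.loc.zl_le S h.char2).trans (zc_le _)).trans (h.loc.o2_le S)

theorem V_comm : zl (S : Subgroup G) P ≤ centralizer (zl (S : Subgroup G) P : Set G) := by
  have h1 := h.loc.zl_le S h.char2
  intro x hx
  rw [mem_centralizer_iff]
  intro y hy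
  exact MinSimple.VModule.zc_comm _ _ (h1 hy) _ (h1 hx)

theorem V_sq (w : G) (hw : w ∈ zl (S : Subgroup G) P) : w ^ 2 = 1 :=
  MinSimple.VModule.zc_sq _ _ (h.loc.zl_le S h.char2 hw)

/-- `C_S(V_P) = O₂(P)` -/
theorem S_inf_centralizer :
    (S : Subgroup G) ⊓ centralizer (zl (S : Subgroup G) P : Set G) = o2 P :=
  h.star.inf_centralizer S h.char2

theorem jj_le_o2 : jj (S : Subgroup G) ≤ o2 P := by
  rw [jj_eq, ← h.S_inf_centralizer]
  refine sSup_le fun A hA => le_inf hA.2.1 ?_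
  by_contra hne
  have hV : IsElementaryAbelian 2 (zl (S : Subgroup G) P) :=
    isElementaryAbelian_iff.2 ⟨fun a ha b hb => mem_centralizer_iff.1 (h.V_comm hb) a ha, h.V_sq⟩
  exact h.noOff A hA.2.1 (FFThm.off_of_AA hV h.V_le_S hA hne).offM

/-- The start `M = N_G(J(S))`. -/
theorem inv_zero : InvU (S : Subgroup G) P (normalizer (jj (S : Subgroup G) : Set G)) := by
  have hV : zl (S : Subgroup G) (normalizer (jj (S : Subgroup G) : Set G)) ≤ zj (S : Subgroup G) := by
    refine MinSimple.VModule.zl_le (ChoiceBase.zc_le_zj _) ?_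
    intro g hg
    have h1 := cj_eq_of_mem_normalizer hg
    rw [mem_normalizer_iff_cj, ← zj_cj]
    refine zj_congr ?_
    rw [jj_cj, h1]
  have hJ : jj (S : Subgroup G) ≤ (S : Subgroup G) ⊓
      centralizer (zl (S : Subgroup G) (normalizer (jj (S : Subgroup G) : Set G)) : Set G) := by
    refine le_inf (ChoiceBase.jj_le _) ?_
    rw [Subgroup.le_centralizer_iff]
    exact hV.trans fun x hx => mem_centralizer_iff.2 fun y hy => (ChoiceBase.mem_zj.1 hx).2.2 y hy
  refine ⟨⟨le_normalizer.trans (normalizer_le_jj _), ?_, ?_, ?_⟩, ?_⟩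
  · have h1 : jj (o2 P) = jj (S : Subgroup G) := jj_eq_of_jj_le h.jj_le_o2 (h.loc.o2_le S)
    rw [← h1]
    exact (MinSimple.VModule.le_normalizer_o2 P).trans (normalizer_le_jj _)
  · refine isElementaryAbelian_iff.2 ⟨fun a ha b hb => ?_, fun a ha => (ChoiceBase.mem_zj.1 (hV ha)).2.1⟩
    exact (ChoiceBase.mem_zj.1 (hV hb)).2.2 a (ChoiceBase.mem_zj.1 (hV ha)).1
  · intro T hT hTS
    rw [← jj_eq_of_jj_le (hJ.trans hT) hTS]
    exact normalizer_le_jj T
  · intro g T h1 h2 h3 h4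
    have e1 : jj T = jj (S : Subgroup G) := jj_eq_of_jj_le (hJ.trans h1) h2
    have e2 : jj T = jj (cj g (S : Subgroup G)) := by
      refine jj_eq_of_jj_le ?_ h4
      rw [jj_cj]
      exact (cj_mono g hJ).trans h3
    rw [mem_normalizer_iff_cj, ← jj_cj, ← e2, e1]

end Cf

/-! ### The chain -/

/-- The chain. -/
inductive Ch (S P : Subgroup G) (Fam : Subgroup G → Set (Subgroup G) → Prop) : Subgroup G → Prop
  | zero : Ch S P Fam (normalizer (jj S : Set G))
  | step {M : Subgroup G} {SS : Set (Subgroup G)} (c : Ch S P Fam M) (hF : Fam M SS)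
      (hSS : ∀ m ∈ M, ∀ X ∈ SS, cj m X ∈ SS) (hle : ∀ X ∈ SS, X ≤ S → X ≤ o2 P) :
      Ch S P Fam (M ⊓ normalizer (KK S M SS : Set G))

section chain

variable {S : Sylow 2 G} {P M : Subgroup G} {Fam : Subgroup G → Set (Subgroup G) → Prop}

theorem Ch.invU (h : Cf S P) (c : Ch (S : Subgroup G) P Fam M) : InvU (S : Subgroup G) P M := by
  induction c with
  | zero => exact h.inv_zero
  | step _ _ hSS hle ih => exact ih.step (h.loc.o2_le S) h.S_inf_centralizer.le hSS hle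

/-- **LEMMA J.** -/
theorem Cf.exists_min (h : Cf S P) (Fam : Subgroup G → Set (Subgroup G) → Prop) :
    ∃ M : Subgroup G, Ch (S : Subgroup G) P Fam M ∧
      ∀ SS : Set (Subgroup G), Fam M SS → (∀ m ∈ M, ∀ X ∈ SS, cj m X ∈ SS) →
        (∃ X ∈ SS, X ≤ S ∧ ¬ X ≤ centralizer (zl (S : Subgroup G) M : Set G)) →
        ∃ X ∈ SS, X ≤ S ∧ ¬ X ≤ o2 P := by
  obtain ⟨M, hM, hmin⟩ := Set.exists_min_image {M : Subgroup G | Ch (S : Subgroup G) P Fam M}
    (fun M => Nat.card (zl (S : Subgroup G) M)) (Set.toFinite _) ⟨_, Ch.zero⟩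
  refine ⟨M, hM, fun SS hF hSS hex => ?_⟩
  by_contra hcon
  push Not at hcon
  obtain ⟨X, hX, hXS, hXC⟩ := hex
  have h2 := hmin _ (Ch.step hM hF hSS hcon)
  have h3 : zl (S : Subgroup G) (M ⊓ normalizer (KK (S : Subgroup G) M SS : Set G)) = zl (S : Subgroup G) M :=
    Subgroup.eq_of_le_of_card_ge (zl_mono inf_le_left) h2
  apply hXC
  rw [← h3]
  exact (le_KK hX hXS).trans (KK_le_centralizer SS)

/-- **(5)**: the first member of the chain which does not contain `X`. -/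
theorem Ch.exists_first (c : Ch (S : Subgroup G) P Fam M) {X : Subgroup G} (hX : ¬ X ≤ M) :
    ¬ X ≤ normalizer (jj (S : Subgroup G) : Set G) ∨
      ∃ (M' : Subgroup G) (SS : Set (Subgroup G)), Ch (S : Subgroup G) P Fam M' ∧ Fam M' SS ∧
        (∀ m ∈ M', ∀ Y ∈ SS, cj m Y ∈ SS) ∧ (∀ Y ∈ SS, Y ≤ S → Y ≤ o2 P) ∧
        M ≤ M' ⊓ normalizer (KK (S : Subgroup G) M' SS : Set G) ∧ X ≤ M' ∧
        ¬ X ≤ normalizer (KK (S : Subgroup G) M' SS : Set G) := by
  induction c with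
  | zero => exact Or.inl hX
  | @step M SS c hF hSS hle ih =>
    by_cases hXM : X ≤ M
    · exact Or.inr ⟨M, SS, c, hF, hSS, hle, le_rfl, hXM, fun h1 => hX (le_inf hXM h1)⟩
    · rcases ih hXM with h1 | ⟨M', SS', c', hF', hSS', hle', hMM, hXM', hn⟩
      · exact Or.inl h1
      · exact Or.inr ⟨M', SS', c', hF', hSS', hle', inf_le_left.trans hMM, hXM', hn⟩

/-- The step subgroup of (5) lies in `C_S(V)`. -/
theorem KK_le_of_le {M' : Subgroup G} {SS : Set (Subgroup G)}
    (hMM : M ≤ M' ⊓ normalizer (KK (S : Subgroup G) M' SS : Set G)) :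
    KK (S : Subgroup G) M' SS ≤ (S : Subgroup G) ⊓ centralizer (zl (S : Subgroup G) M : Set G) :=
  le_inf (KK_le _ _ _) ((KK_le_centralizer SS).trans (centralizer_le (zl_mono hMM)))

/-- ... and is not contained in `O₂(X)`, `T ≤ X`, `O₂(X) ≤ S`. -/
theorem not_KK_le {M' X : Subgroup G} {SS : Set (Subgroup G)} (hSS : ∀ m ∈ M', ∀ Y ∈ SS, cj m Y ∈ SS)
    (hXM : X ≤ M') (hXS : o2 X ≤ S) (hn : ¬ X ≤ normalizer (KK (S : Subgroup G) M' SS : Set G)) :
    ¬ KK (S : Subgroup G) M' SS ≤ o2 X := fun hle => hn fun _ hx =>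
  mem_normalizer_KK hSS hle hXS (hXM hx) (MinSimple.VModule.le_normalizer_o2 X hx)

end chain

/-! ### `V` -/

section V

variable {S : Sylow 2 G} {P M : Subgroup G}

theorem V_comm (h : Inv (S : Subgroup G) P M) :
    zl (S : Subgroup G) M ≤ centralizer (zl (S : Subgroup G) M : Set G) := fun x hx =>
  mem_centralizer_iff.2 fun y hy => (isElementaryAbelian_iff.1 h.el).1 y hy x hx

theorem V_sq (h : Inv (S : Subgroup G) P M) : ∀ v ∈ zl (S : Subgroup G) M, v ^ 2 = 1 :=
  (isElementaryAbelian_iff.1 h.el).2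

theorem M_le (_h : Inv (S : Subgroup G) P M) : M ≤ normalizer (zl (S : Subgroup G) M : Set G) :=
  MinSimple.VModule.le_normalizer_zl _ _

theorem V_two (h : Inv (S : Subgroup G) P M) : IsPGroup 2 (zl (S : Subgroup G) M) := fun x =>
  ⟨1, Subtype.ext (by simpa using V_sq h x x.2)⟩

theorem V_le_S (h : Inv (S : Subgroup G) P M) : zl (S : Subgroup G) M ≤ S :=
  le_of_le_normalizer S (V_two h) (h.SM.trans (M_le h))

theorem Z_le (_h : Inv (S : Subgroup G) P M) : zc (S : Subgroup G) ≤ zl (S : Subgroup G) M :=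
  MinSimple.VModule.zc_le_zl _ _

theorem VP_le (h : Inv (S : Subgroup G) P M) : zl (S : Subgroup G) P ≤ zl (S : Subgroup G) M :=
  zl_mono h.PM

/-- a 2-subgroup of `N_G(V)` has a conjugate in `S` -/
theorem exists_conj_le {N A : Subgroup G} (hSN : (S : Subgroup G) ≤ N) (hA : IsPGroup 2 A) (hAN : A ≤ N) :
    ∃ n ∈ N, cj n A ≤ S := by
  have hS : Syl (S : Subgroup G) N := ⟨hSN, S.isPGroup', fun Q _ hQ hSQ => S.is_maximal' hQ hSQ⟩
  obtain ⟨R, hR, hAR⟩ := exists_syl hA hAN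
  obtain ⟨n, hn, hn'⟩ := syl_conj hR hS
  exact ⟨n, hn, hn' ▸ cj_mono n hAR⟩

end V

end Cfsg.Agent.Omega.NO3b.Union

end

-- merged: Cfsg.Agent.Mrg.Omega.NO3b.Union.Dich
section

/-!
# The union text for NotFF (helper1, #15791; referee #15980), part (1): the dichotomy

* `offFam V` : the best offenders on `V`; `badFam V` : the groups `W_F`, `F ≤ V` maximal bad;
* `Fam S M SS` : `SS = offFam V`, or `V` is not FF and `SS = badFam V`; `V = ⟨Z^M⟩`;
* `Alpha S P M` : `V` is not FF, no `1 ≠ F ≤ V` is bad;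
* `Cf.exists_chain` : a member `M` of the chain with `V` not FF, and `Alpha` or (BETA) a maximal bad `F` with
  `W_F ≤ S`, `W_F ≰ O₂(P)`.
-/

set_option autoImplicit false
set_option linter.unusedSectionVars false

namespace Cfsg.Agent.Omega.NO3b.Union

open Subgroup Cfsg Cfsg.Agent.ZN Cfsg.Agent.ZN.ChoiceBase Cfsg.Agent.Omega.MinPar Cfsg.Agent.Omega.Frame
open Cfsg.Agent.Omega.NO1 Cfsg.Agent.Omega.NO1.JMin
open Cfsg.Agent.ZN.ChoiceSit (Syl syl_conj exists_syl o2_le_syl o2_cj)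
open Cfsg.Agent.Omega.FFThm (OffM relIndex_le_iff)
open Cfsg.Agent.Omega.NO1.BestOff (Best exists_best)
open Cfsg.Agent.Omega.NO3b.EZero (NotFF)
open Cfsg.Agent.Omega.NOne.Flat (Bad WW)
open Cfsg.Agent.MinSimple.VModule (o2_isPGroup)
open scoped Pointwise

universe u

variable {G : Type u} [Group G]

/-- the best offenders on `V` -/
def offFam (V : Subgroup G) : Set (Subgroup G) := {X | Best V X}

/-- the groups `W_F`, `F` a maximal bad subgroup of `V` -/
def badFam (V : Subgroup G) : Set (Subgroup G) :=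
  {X | ∃ F : Subgroup G, Bad V F ∧ (∀ D : Subgroup G, Bad V D → F ≤ D → D = F) ∧ X = WW V F}

theorem offFam_cj {V : Subgroup G} {m : G} (hm : m ∈ normalizer (V : Set G)) {X : Subgroup G}
    (hX : X ∈ offFam V) : cj m X ∈ offFam V :=
  Best.conj hX hm

theorem EE_cj (m : G) (V F : Subgroup G) : cj m (NOne.Flat.EE V F) = NOne.Flat.EE (cj m V) (cj m F) := by
  rw [NOne.Flat.EE, NOne.Flat.EE, cj_inf, ← o2_cj, cj_centralizer]

theorem cj_WW_le (m : G) (V F : Subgroup G) : cj m (WW V F) ≤ WW (cj m V) (cj m F) := by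
  rw [cj, Subgroup.map_le_iff_le_comap]
  refine NoFF.Basic.V_le fun p hp => ?_
  rw [← Subgroup.map_le_iff_le_comap]
  have h1 : m * p * m⁻¹ ∈ centralizer ((cj m F : Subgroup G) : Set G) := by
    rw [← cj_centralizer]
    exact EZero.mem_cj_self hp
  have h2 : cj m (cj p (NOne.Flat.EE V F)) = cj (m * p * m⁻¹) (NOne.Flat.EE (cj m V) (cj m F)) := by
    rw [← EE_cj, cj_cj, cj_cj]
    congr 1
    group
  exact h2.le.trans (NoFF.Basic.Z_le_V h1)

theorem WW_cj (m : G) (V F : Subgroup G) : cj m (WW V F) = WW (cj m V) (cj m F) := by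
  refine le_antisymm (cj_WW_le m V F) ?_
  have h1 := cj_WW_le m⁻¹ (cj m V) (cj m F)
  rw [cj_inv_cj, cj_inv_cj, cj_le_iff, inv_inv] at h1
  exact h1

theorem Bad.cj {V F : Subgroup G} (h : Bad V F) (m : G) : Bad (cj m V) (cj m F) where
  ne := fun h0 => h.ne (by
    have h1 := congrArg (ChoiceBase.cj m⁻¹) h0
    rwa [cj_inv_cj, ChoiceBase.cj, Subgroup.map_bot] at h1)
  le := cj_mono m h.le
  not_le := fun h0 => h.not_le (by
    rw [← cj_centralizer, o2_cj, cj_le_iff, cj_inv_cj] at h0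
    exact h0)

theorem badFam_cj {V : Subgroup G} {m : G} (hm : m ∈ normalizer (V : Set G)) {X : Subgroup G}
    (hX : X ∈ badFam V) : cj m X ∈ badFam V := by
  obtain ⟨F, hF, hmax, rfl⟩ := hX
  have hV := cj_eq_of_mem_normalizer hm
  have hV' := cj_eq_of_mem_normalizer (inv_mem hm)
  refine ⟨cj m F, ?_, ?_, ?_⟩
  · have := Bad.cj hF m
    rwa [hV] at this
  · intro D hD hle
    have h1 := Bad.cj hD m⁻¹
    rw [hV'] at h1
    have h2 := hmax _ h1 (by rwa [← cj_le_iff])
    rw [← h2, cj_cj_inv]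
  · rw [WW_cj, hV]

/-- The two kinds of families. -/
def Fam (S M : Subgroup G) (SS : Set (Subgroup G)) : Prop :=
  SS = offFam (zl S M) ∨ (NotFF (zl S M) ∧ SS = badFam (zl S M))

theorem Fam.inv {S M : Subgroup G} {SS : Set (Subgroup G)} (h : Fam S M SS) :
    ∀ m ∈ M, ∀ X ∈ SS, cj m X ∈ SS := by
  intro m hm X hX
  have hm' := MinSimple.VModule.le_normalizer_zl S M hm
  rcases h with rfl | ⟨-, rfl⟩
  · exact offFam_cj hm' hX
  · exact badFam_cj hm' hX

variable [Finite G]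

/-- **ALPHA** -/
structure Alpha (S : Sylow 2 G) (P M : Subgroup G) : Prop where
  inv : InvU (S : Subgroup G) P M
  nff : NotFF (zl (S : Subgroup G) M)
  good : ∀ F : Subgroup G, F ≤ zl (S : Subgroup G) M → F ≠ ⊥ →
    zl (S : Subgroup G) M ≤ o2 (centralizer (F : Set G))

section

variable {S : Sylow 2 G} {P M : Subgroup G}

/-- `V` is not FF if the best offenders do not stop the recursion. -/
theorem notFF (h : Cf S P) (hI : InvU (S : Subgroup G) P M)
    (hmin : (∃ X ∈ offFam (zl (S : Subgroup G) M), X ≤ S ∧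
        ¬ X ≤ centralizer (zl (S : Subgroup G) M : Set G)) →
      ∃ X ∈ offFam (zl (S : Subgroup G) M), X ≤ S ∧ ¬ X ≤ o2 P) : NotFF (zl (S : Subgroup G) M) := by
  intro A hA hN hsq hcm hne
  by_contra hcon
  rw [not_lt, ← relIndex_le_iff] at hcon
  have hoff : OffM (zl (S : Subgroup G) M) A := ⟨⟨hsq, hcm⟩, hne, hcon⟩
  obtain ⟨X, hXA, hX, hXne⟩ := exists_best hoff
  obtain ⟨n, hn, hnX⟩ := exists_conj_le (hI.SM.trans (Union.M_le hI.toInv)) (hA.to_le hXA) (hXA.trans hN)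
  have hV := cj_eq_of_mem_normalizer hn
  obtain ⟨Y, hY, hYS, hYP⟩ := hmin ⟨cj n X, offFam_cj hn hX, hnX, fun h1 => hXne (by
    rw [cj_le_iff, cj_centralizer, cj_eq_of_mem_normalizer (inv_mem hn)] at h1
    exact h1)⟩
  apply hYP
  rw [← h.S_inf_centralizer]
  refine le_inf hYS ?_
  by_contra hcon'
  exact h.noOff Y hYS (Best.offM hY (Union.VP_le hI.toInv) hcon')

theorem card_lt {V A B D : Subgroup G} (h : B.relIndex A < D.relIndex V) :
    Nat.card A * Nat.card ↥(V ⊓ D) < Nat.card V * Nat.card ↥(A ⊓ B) := by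
  by_contra hcon
  rw [not_lt] at hcon
  exact absurd h (not_lt.2 (relIndex_le_iff.1 hcon))

/-- The hypotheses of THEOREM FLAT. -/
theorem flatHyp (hc : IsCharacteristicTwoType G) (hI : InvU (S : Subgroup G) P M)
    (hnff : NotFF (zl (S : Subgroup G) M)) {F : Subgroup G} (hF : Bad (zl (S : Subgroup G) M) F)
    (hmax : ∀ D : Subgroup G, Bad (zl (S : Subgroup G) M) D → F ≤ D → D = F) :
    NOne.Flat.Hyp (zl (S : Subgroup G) M) F where
  comm := Union.V_comm hI.toInv
  sq := Union.V_sq hI.toInv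
  syl := fun D _ hD => (hI.toInv.o2_le hD).trans (Union.M_le hI.toInv)
  noff := by
    intro A hN hA h2 hne
    refine card_lt (hnff A (fun x => ⟨1, Subtype.ext (by simpa using h2 x x.2)⟩) hN
      (fun a ha => by rw [h2 a ha]; exact one_mem _) (fun a ha b hb => ?_) hne)
    have e : a * b = b * a := (mem_centralizer_iff.1 (hA ha) b hb).symm
    rw [e, mul_inv_cancel_right, mul_inv_cancel]
    exact one_mem _
  char2 := NOne.LemmaT.char2_centralizer hc ((Union.V_two hI.toInv).to_le hF.le) hF.ne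
  bad := hF
  max := hmax

/-- `W_F` does not centralise `V`. -/
theorem not_WW_le {V F : Subgroup G} (h : NOne.Flat.Hyp V F) : ¬ WW V F ≤ centralizer (V : Set G) := by
  intro hle
  obtain ⟨w, hw, hwE⟩ := SetLike.not_le_iff_exists.1 h.bad.not_le
  obtain ⟨e, he, heF⟩ := SetLike.exists_of_lt h.F_lt_E
  obtain ⟨s, hs, hse⟩ := h.surj hw (fun h1 => hwE h1.2) he
  apply heF
  have h1 : NOne.NearFF.c w s = 1 := by
    have h2 := mem_centralizer_iff.1 (hle hs) w hw
    rw [NOne.NearFF.c, h2, mul_inv_cancel_right, mul_inv_cancel]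
  rw [h1, one_mul] at hse
  exact inv_mem_iff.1 hse

/-- **(1)**: the chain ends with `V` not FF and (ALPHA) or (BETA). -/
theorem Cf.exists_chain (h : Cf S P) : ∃ M : Subgroup G, Ch (S : Subgroup G) P (Fam (S : Subgroup G)) M ∧
    NotFF (zl (S : Subgroup G) M) ∧
    (Alpha S P M ∨ ∃ F : Subgroup G, NOne.Flat.Hyp (zl (S : Subgroup G) M) F ∧
      WW (zl (S : Subgroup G) M) F ≤ S ∧ ¬ WW (zl (S : Subgroup G) M) F ≤ o2 P) := by
  obtain ⟨M, c, hmin⟩ := h.exists_min (Fam (S : Subgroup G))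
  have hI := c.invU h
  have hnff : NotFF (zl (S : Subgroup G) M) := notFF h hI (hmin _ (Or.inl rfl) (Fam.inv (Or.inl rfl)))
  refine ⟨M, c, hnff, ?_⟩
  by_cases hbad : ∃ F, Bad (zl (S : Subgroup G) M) F
  · right
    obtain ⟨F₀, hF₀⟩ := hbad
    obtain ⟨F, -, hF, hmax⟩ : ∃ F, F₀ ≤ F ∧ Bad (zl (S : Subgroup G) M) F ∧
        ∀ D : Subgroup G, Bad (zl (S : Subgroup G) M) D → F ≤ D → D = F := by
      obtain ⟨F, hF1, hF2⟩ := Set.Finite.exists_le_maximal
        (Set.toFinite {F : Subgroup G | Bad (zl (S : Subgroup G) M) F}) hF₀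
      exact ⟨F, hF1, hF2.1, fun D hD hle => le_antisymm (hF2.2 hD hle) hle⟩
    have hfl := flatHyp h.char2 hI hnff hF hmax
    have hWM : WW (zl (S : Subgroup G) M) F ≤ M := NOne.Flat.Hyp.W_le_R.trans (hI.toInv.o2_le hF.le)
    have hW2 : IsPGroup 2 (WW (zl (S : Subgroup G) M) F : Subgroup G) :=
      (o2_isPGroup _).to_le NOne.Flat.Hyp.W_le_R
    obtain ⟨m, hm, hmW⟩ := exists_conj_le hI.SM hW2 hWM
    have hmN := Union.M_le hI.toInv hm
    have hfam : Fam (S : Subgroup G) M (badFam (zl (S : Subgroup G) M)) := Or.inr ⟨hnff, rfl⟩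
    obtain ⟨X, ⟨F', hF', hmax', rfl⟩, hXS, hXP⟩ := hmin _ hfam (Fam.inv hfam)
      ⟨cj m (WW (zl (S : Subgroup G) M) F), badFam_cj hmN ⟨F, hF, hmax, rfl⟩, hmW, fun h1 => not_WW_le hfl (by
        rw [cj_le_iff, cj_centralizer, cj_eq_of_mem_normalizer (inv_mem hmN)] at h1
        exact h1)⟩
    exact ⟨F', flatHyp h.char2 hI hnff hF' hmax', hXS, hXP⟩
  · left
    refine ⟨hI, hnff, fun F hF hF1 => ?_⟩
    by_contra hcon
    exact hbad ⟨F, hF1, hF, hcon⟩

end

end Cfsg.Agent.Omega.NO3b.Union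

end
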